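import Groth.Agent.CurveFF.BC
import Groth.Agent.CurveFF.Genus
import Groth.Agent.PicTrivLib.Fiber
import Groth.Agent.AVLib.GeomInt
import Groth.Agent.GrpOmega.Basic
import Groth.Agent.AmpleLib.Pullback
import Groth.Agent.BCLib.SteinFlat
import Groth.Agent.ShBCLib.Finrank
import Groth.Agent.DCohLib.ProjMap
import Groth.Prelude.Def_ega3

/-!
# Relative differentials of a family of smooth curves
-/

set_option autoImplicit false
set_option backward.isDefEq.respectTransparency false
set_option linter.style.haveILetI false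
set_option maxHeartbeats 1000000

universe u

open CategoryTheory CategoryTheory.Limits AlgebraicGeometry
open Groth.Agent.PullbackMod

noncomputable section

namespace Groth.Agent.CurveFamLib

/-- The fibre over its residue field. -/
local instance fibreOverOf {C S : Scheme.{u}} (f : C ⟶ S) (s : S) :
    (f.fiber s).Over (Spec (CommRingCat.of (S.residueField s))) := ⟨f.fiberToSpecResidueField s⟩

variable {C S : Scheme.{u}} (f : C ⟶ S) [IsProper f] [Smooth f] [GeometricallyConnected f]
  (hdim : ∀ s : S, topologicalKrullDim ↥(f.fiber s) = 1)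

theorem fibre_setup (s : S) :
    IsProper (f.fiber s ↘ Spec (CommRingCat.of (S.residueField s))) ∧
      Smooth (f.fiber s ↘ Spec (CommRingCat.of (S.residueField s))) ∧ IsIntegral (f.fiber s) ∧
      Module.finrank (S.residueField s) (Coh.HH (f.fiber s) (Coh.structureModule (f.fiber s)) 0) = 1 := by
  haveI hp : IsProper (f.fiber s ↘ Spec (CommRingCat.of (S.residueField s))) :=
    MorphismProperty.of_isPullback (P := @IsProper) (IsPullback.of_hasPullback f (S.fromSpecResidueField s)) inferInstance
  haveI hs : Smooth (f.fiber s ↘ Spec (CommRingCat.of (S.residueField s))) :=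
    MorphismProperty.of_isPullback (P := @Smooth) (IsPullback.of_hasPullback f (S.fromSpecResidueField s)) inferInstance
  haveI : ConnectedSpace ↥(f.fiber s) :=
    GeometricallyConnected.geometrically_connectedSpace _ _ _ (IsPullback.of_hasPullback f (S.fromSpecResidueField s))
  haveI := AVLib.geometricallyReduced_of_smooth f
  refine ⟨hp, hs, CurveLib.isIntegral_of_smooth (S.residueField s), ?_⟩
  refine Eq.trans ?_ (BCLib.finrank_fiberH_zero f s (PicTrivLib.bijective_fiber f s))
  exact (ShBCLib.finrank_HH_iso (X := f.fiber s) (K := S.residueField s)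
    (DCohLib.pullStructureIso (f.fiberι s)) 0).symm

theorem nonempty_fibre_omega (s : S) :
    Nonempty ((Scheme.Modules.pullback (f.fiberι s)).obj (Omega.sheaf f) ≅
      Omega.sheaf (f.fiber s ↘ Spec (CommRingCat.of (S.residueField s)))) := by
  haveI : QuasiSeparated (f.fiber s ↘ Spec (CommRingCat.of (S.residueField s))) :=
    inferInstanceAs (QuasiSeparated (pullback.snd f (S.fromSpecResidueField s)))
  exact GrpOmega.omega_baseChange (IsPullback.of_hasPullback f (S.fromSpecResidueField s))

include hdim in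
theorem isInvertible_omega : PicF.IsInvertible (Omega.sheaf f) := by
  have hlf := InfLiftLib.isFinLocFree_omega f
  obtain ⟨hq, hfp⟩ := isQCoh_and_isFP_of_isFinLocFree _ hlf
  haveI := hq
  refine VBLib.isInvertible_of_rank ((isFinLocFreeOfRank_iff_freeAt _ hfp 1).2 fun x => ?_)
  obtain ⟨n, hn⟩ := (isFinLocFree_iff_freeAt _ hfp).1 hlf x
  obtain ⟨hp, hs, hi, h0⟩ := fibre_setup f (f x)
  haveI := hp; haveI := hs; haveI := hi
  obtain ⟨φ⟩ := nonempty_fibre_omega f (f x)
  let y := f.asFiber x
  have h1 : FreeAt n ((Scheme.Modules.pullback (f.fiberι (f x))).obj (Omega.sheaf f)) y :=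
    freeAt_pullback (M := Omega.sheaf f) (f.fiberι (f x)) y (by rw [f.fiberι_asFiber]; exact hn)
  have hI := CurveFF.omega_invertible_of_smooth (S.residueField (f x)) (hdim (f x)) h0
  obtain ⟨e⟩ := CurveLib.freeAt_one_of_isInvertible hI y
  obtain ⟨E⟩ := h1
  haveI : Coh.IsQCoh (CurveFF.om (S.residueField (f x)) (f.fiber (f x))) :=
    OmegaAffLib.isQCoh_omega (f.fiber (f x) ↘ Spec (CommRingCat.of (S.residueField (f x))))
  have h3 : FreeAt n (CurveFF.om (S.residueField (f x)) (f.fiber (f x))) y :=
    ⟨(LinearEquiv.ofBijective (stalkLin φ.hom y) ((isIso_iff_stalk φ.hom).1 inferInstance y)).symm.trans E⟩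
  obtain rfl : n = 1 := by rw [← fibreRank_eq_of_freeAt _ h3, fibreRank_eq_of_freeAt _ ⟨e⟩]
  exact hn

variable (g : ℕ)
  (hgen : ∀ s : S, letI : (f.fiber s).Over (Spec (S.residueField s)) := ⟨f.fiberToSpecResidueField s⟩
    Curv2.genus (S.residueField s) (f.fiber s) = g)

include hdim hgen in
/-- Pluricanonical cohomology of the fibres. -/
theorem fibre_tensorPow (hg : 2 ≤ g) (n : ℕ) (hn : 2 ≤ n) (s : S) :
    Subsingleton (CohIII.fiberH f (CohB1.tensorPow (Omega.sheaf f) n) s 1) ∧
      CohIII.fiberRank f (CohB1.tensorPow (Omega.sheaf f) n) 0 s = (2 * n - 1) * (g - 1) := by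
  let K := S.residueField s
  obtain ⟨hp, hs, hi, h0⟩ := fibre_setup f s
  haveI := hp; haveI := hs; haveI := hi
  haveI := EulerIneqLib.isNoetherian_proper (X := f.fiber s) (S.residueField s)
  haveI := VBLib.isRegCurve_of_smooth (S.residueField s) (X := f.fiber s) (hdim s).le
  let W := CurveFF.om (S.residueField s) (f.fiber s)
  have hW := CurveFF.omega_invertible_of_smooth (S.residueField s) (hdim s) h0
  have hdW := (CurveFF.omega_deg_h0 (S.residueField s) (hdim s) h0).1
  have hgs : Curv2.genus (S.residueField s) (f.fiber s) = g := hgen s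
  have hdeg := CurveLib.deg_tensorPow (k := S.residueField s) (hdim s).le hW n
  rw [hdW, hgs] at hdeg
  obtain ⟨φ⟩ := nonempty_fibre_omega f s
  let ψ := AmpleLib.pullPow (f.fiberι s) (Omega.sheaf f) n ≪≫ AmpleLib.powCongr φ n
  have hP := AmpleLib.isInvertible_tensorPow hW n
  have hbound : 2 * (Curv2.genus (S.residueField s) (f.fiber s) : ℤ) - 1 ≤
      Curv2.deg (S.residueField s) (f.fiber s) (CohB1.tensorPow W n) 1 := by
    rw [hdeg, hgs]
    nlinarith
  haveI h1 := CurveFF.subsingleton_H1 (hdim s) h0 hP hbound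
  haveI hfin := EulerIneqLib.finite_HH (k := S.residueField s) (CurveLib.isCoh_of_isInvertible hP) 1
  haveI := EulerIneqLib.finite_HH (k := S.residueField s) (CurveLib.isCoh_of_isInvertible hP) 0
  have hzero : Module.finrank (S.residueField s) (Coh.HH (f.fiber s) (CohB1.tensorPow W n) 1) = 0 :=
    Module.finrank_zero_of_subsingleton
  constructor
  · have hC : Coh.IsCoh ((Scheme.Modules.pullback (f.fiberι s)).obj (CohB1.tensorPow (Omega.sheaf f) n)) :=
      ShStabLib.isCoh_of_iso ψ.symm (CurveLib.isCoh_of_isInvertible hP)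
    haveI := EulerIneqLib.finite_HH (k := S.residueField s) hC 1
    exact (Module.finrank_eq_zero_iff_of_free (S.residueField s)
      (Coh.HH (f.fiber s) ((Scheme.Modules.pullback (f.fiberι s)).obj (CohB1.tensorPow (Omega.sheaf f) n)) 1)).1
      ((ShBCLib.finrank_HH_iso (X := f.fiber s) (K := S.residueField s) ψ 1).trans hzero)
  · refine (ShBCLib.finrank_HH_iso (X := f.fiber s) (K := S.residueField s) ψ 0).trans ?_
    have e1 := CurveLib.euler_eq_sub (k := S.residueField s) (M := CohB1.tensorPow W n) (hdim s).le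
    have e2 := CurveLib.euler_eq_sub (k := S.residueField s) (M := Coh.structureModule (f.fiber s)) (hdim s).le
    rw [h0, show Module.finrank (S.residueField s) (Coh.HH (f.fiber s) (Coh.structureModule (f.fiber s)) 1) = g from hgs] at e2
    unfold Curv2.deg at hdeg
    rw [e1, e2, hzero] at hdeg
    have h2 : ((2 * n - 1) * (g - 1) : ℕ) = ((2 * (n : ℤ) - 1) * ((g : ℤ) - 1)) := by
      rw [Nat.cast_mul, Nat.cast_sub (by omega), Nat.cast_sub (by omega)]
      push_cast
      ring
    zify at h2 ⊢
    rw [h2]
    push_cast at hdeg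
    linarith

end Groth.Agent.CurveFamLib
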